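import Cfsg.Agent.Lib.Similarity.Transvection
import Cfsg.Prelude.Def_ClassicalGeometry

/-!
Normal form of transvections under conjugation in `SL`.
-/

set_option autoImplicit false

namespace Cfsg.Agent.Lib.SLTransv

open Matrix

variable {F : Type*} [Field F]

/-- Every transvection of `SL_{n+2}` is conjugate in `SL_{n+2}` to `1 + c E_{10}`, with `c = 1` if `n ≥ 1`. -/
theorem exists_conj_normal (n : ℕ) (t : Matrix (Fin (n + 2)) (Fin (n + 2)) F)
    (ht : Cfsg.IsTransvection t) :
    ∃ (g : SpecialLinearGroup (Fin (n + 2)) F) (c : F), (1 ≤ n → c = 1) ∧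
      t * (g : Matrix (Fin (n + 2)) (Fin (n + 2)) F) =
        (g : Matrix (Fin (n + 2)) (Fin (n + 2)) F) * (1 + Matrix.single 1 0 c) := by
  classical
  set N := t - 1 with hN
  obtain ⟨φ, a, hφ, hφa, ha0, hφ0⟩ := Cfsg.Agent.Lib.Similarity.exists_trans_data
    (Matrix.mulVecLin N) ht.1 (by
      rw [Module.End.mul_eq_comp, ← Matrix.mulVecLin_mul, ht.2, Matrix.mulVecLin_zero])
  have hK : Module.finrank F (LinearMap.ker φ) = n + 1 :=
    Cfsg.Agent.Lib.Similarity.finrank_ker_of_ne_zero φ hφ0 (by simp)
  obtain ⟨u, hu⟩ : ∃ u, φ u = 1 := by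
    obtain ⟨x, hx⟩ : ∃ x, φ x ≠ 0 := by
      by_contra h
      push Not at h
      exact hφ0 (LinearMap.ext h)
    exact ⟨(φ x)⁻¹ • x, by simp [hx]⟩
  -- a basis of the kernel starting with `a`
  obtain ⟨b, hb⟩ : ∃ b : Module.Basis (Fin (n + 1)) F (LinearMap.ker φ), (b 0 : Fin (n + 2) → F) = a := by
    let a' : LinearMap.ker φ := ⟨a, hφa⟩
    have hli : LinearIndepOn F id ({a'} : Set (LinearMap.ker φ)) :=
      LinearIndepOn.singleton (fun h => ha0 (congrArg Subtype.val h))
    let B := Module.Basis.extend hli
    haveI : Fintype (hli.extend ({a'} : Set (LinearMap.ker φ)).subset_univ) :=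
      FiniteDimensional.fintypeBasisIndex B
    let i₀ : hli.extend ({a'} : Set (LinearMap.ker φ)).subset_univ := ⟨a', hli.subset_extend _ rfl⟩
    let e : (hli.extend ({a'} : Set (LinearMap.ker φ)).subset_univ) ≃ Fin (n + 1) :=
      Fintype.equivFinOfCardEq (by rw [← Module.finrank_eq_card_basis B, hK])
    refine ⟨B.reindex (e.trans (Equiv.swap (e i₀) 0)), ?_⟩
    simp [B, i₀, a']
  -- scale the last column to reach determinant one
  let col : F → Fin (n + 2) → Fin (n + 2) → F := fun s j =>
    Fin.cases u (fun i => if i = Fin.last n then s • (b i : Fin (n + 2) → F) else b i) j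
  let G : F → Matrix (Fin (n + 2)) (Fin (n + 2)) F := fun s => Matrix.of fun i j => col s j i
  have hdet : ∀ s, (G s).det = s * (G 1).det := by
    intro s
    have h1 : G s = (G 1).updateCol (Fin.last (n + 1)) (s • fun i => G 1 i (Fin.last (n + 1))) := by
      ext i j
      rw [Matrix.updateCol_apply]
      split_ifs with hj
      · subst hj
        simp [G, col, ← Fin.succ_last]
      · refine Fin.cases ?_ (fun k => ?_) j hj
        · intro _; simp [G, col]
        · intro hk
          have : k ≠ Fin.last n := fun e => hk (by rw [e, Fin.succ_last])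
          simp [G, col, this]
    rw [h1, Matrix.det_updateCol_smul, Matrix.updateCol_eq_self]
  have hne : (G 1).det ≠ 0 := by
    have hli : LinearIndependent F (col 1) := by
      have : col 1 = Fin.cons u (fun i => (b i : Fin (n + 2) → F)) := by
        funext j
        refine Fin.cases ?_ (fun i => ?_) j
        · simp [col]
        · simp [col]
      rw [this, linearIndependent_finCons]
      refine ⟨b.linearIndependent.map' (LinearMap.ker φ).subtype (Submodule.ker_subtype _), fun hmem => ?_⟩
      have hle : Submodule.span F (Set.range fun i => (b i : Fin (n + 2) → F)) ≤ LinearMap.ker φ :=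
        Submodule.span_le.2 (by rintro x ⟨i, rfl⟩; exact (b i).2)
      have h1 := hle hmem
      rw [LinearMap.mem_ker, hu] at h1
      exact one_ne_zero h1
    have hu' : IsUnit (G 1) := Matrix.linearIndependent_cols_iff_isUnit.1 hli
    exact ((Matrix.isUnit_iff_isUnit_det _).1 hu').ne_zero
  set s := (G 1).det⁻¹
  set c : F := if (0 : Fin (n + 1)) = Fin.last n then s⁻¹ else 1 with hc
  refine ⟨⟨G s, by rw [hdet, inv_mul_cancel₀ hne]⟩, c, fun h => ?_, ?_⟩
  · rw [hc, if_neg]
    intro e
    have := congrArg Fin.val e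
    simp at this
    omega
  show t * G s = G s * (1 + Matrix.single 1 0 c)
  rw [show t = 1 + N by simp [hN], Matrix.add_mul, Matrix.mul_add, one_mul, mul_one, add_right_inj]
  ext i j
  have hl : (N * G s) i j = φ (col s j) * a i := by
    have := congrFun (hφ (col s j)) i
    rw [Matrix.mulVecLin_apply, Pi.smul_apply, smul_eq_mul] at this
    rw [← this]
    rfl
  rw [hl]
  refine Fin.cases ?_ (fun k => ?_) j
  · rw [Matrix.mul_single_apply_same]
    have hs0 : s ≠ 0 := inv_ne_zero hne
    by_cases h0 : (0 : Fin (n + 1)) = Fin.last n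
    · simp only [G, col, Matrix.of_apply, hc, if_pos h0, Fin.cases_zero, hu, one_mul,
        ← Fin.succ_zero_eq_one, Fin.cases_succ, hb]
      simp only [Pi.smul_apply, smul_eq_mul]
      field_simp
    · simp only [G, col, Matrix.of_apply, hc, if_neg h0, Fin.cases_zero, hu, one_mul,
        ← Fin.succ_zero_eq_one, Fin.cases_succ, hb, mul_one]
  · rw [Matrix.mul_single_apply_of_ne _ _ _ _ _ (Fin.succ_ne_zero k)]
    have : φ (col s k.succ) = 0 := by
      simp only [col, Fin.cases_succ]
      split_ifs
      · rw [map_smul, LinearMap.mem_ker.1 (b k).2, smul_zero]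
      · exact LinearMap.mem_ker.1 (b k).2
    rw [this, zero_mul]

end Cfsg.Agent.Lib.SLTransv
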